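import Groth.Agent.VarietyLib.FiniteClosedCover

/-!
# Affine opens of a nilpotent thickening of a scheme affine over a base
-/

set_option autoImplicit false
set_option backward.isDefEq.respectTransparency.types false

universe u

open CategoryTheory AlgebraicGeometry TopologicalSpace

namespace Groth.Agent.Thick16

variable {T Tc U : Scheme.{u}} (i : T ⟶ Tc) [IsClosedImmersion i]
  (hnil : ∃ n : ℕ, ∀ V : Tc.affineOpens, i.ker.ideal V ^ n = ⊥)

include hnil in
/-- A closed immersion with nilpotent ideal is surjective. -/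
theorem surjective_of_nilpotent : Function.Surjective i := by
  intro x
  obtain ⟨n, hn⟩ := hnil
  obtain ⟨V, hV, hxV, -⟩ := exists_isAffineOpen_mem_and_subset (x := x) (U := ⊤) trivial
  have hx : x ∈ i.ker.support := by
    rw [Scheme.IdealSheafData.mem_support_iff_of_mem (U := ⟨V, hV⟩) hxV, Scheme.mem_zeroLocus_iff]
    intro f hf hxf
    have hfn : f ^ n = 0 := by
      have := Ideal.pow_mem_pow hf n
      rwa [hn ⟨V, hV⟩, Ideal.mem_bot] at this
    rw [Tc.mem_basicOpen f x hxV] at hxf
    exact (IsNilpotent.map ⟨n, hfn⟩ (Tc.presheaf.germ V x hxV).hom).not_isUnit hxf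
  have h : x ∈ closure (Set.range i) := by
    rw [← Scheme.Hom.support_ker]; exact hx
  rwa [i.isClosedEmbedding.isClosed_range.closure_eq] at h

variable (u : T ⟶ U) [IsAffineHom u] (g : Tc.carrier ⟶ U.carrier) (hg : i.base ≫ g = u.base)

include hnil hg in
/-- The preimage of an affine open of the base is affine. -/
theorem isAffineOpen_preimage {V : U.Opens} (hV : IsAffineOpen V) :
    IsAffineOpen ((Opens.map g).obj V : Tc.Opens) := by
  let W : Tc.Opens := (Opens.map g).obj V
  have he : i ⁻¹ᵁ W = u ⁻¹ᵁ V := by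
    ext x
    have : g (i x) = u x := congr($hg x)
    simp only [W, Scheme.Hom.coe_preimage, Set.mem_preimage]
    show g (i x) ∈ V ↔ u x ∈ V
    rw [this]
  haveI : IsAffine (i ⁻¹ᵁ W).toScheme := by
    rw [he]; exact hV.preimage u
  haveI : IsClosedImmersion (i ∣_ W) := inferInstance
  exact Groth.Agent.VarietyLib.isAffine_of_surjective_closedImmersion (i ∣_ W) fun x => by
    obtain ⟨y, hy⟩ := surjective_of_nilpotent i hnil x.1
    refine ⟨⟨y, show i y ∈ W from hy ▸ x.2⟩, ?_⟩
    refine Subtype.ext ?_
    rw [morphismRestrict_base]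
    exact hy

end Groth.Agent.Thick16
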